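import Groth.Agent.ResProp.EF.K980.Nodes
import Groth.Agent.ResProp.EF.K959.PowHom

/-!
# AD4: the seam between (glue + AD3 + G5 + E-side) and the assembly of the kernel datum (helper303)
DEFINITIONS AND STATEMENTS ONLY.

* `arA L n i j` : the arrow of `P` over `A⟨n⟩` between the vertices (`h = 1`).
* `Glued o s` : the descent datum `s` on `o.X.K` is a lift of the arrow `0 → 1` over `A⟨1⟩`.
* `GrF X m = F m / F (m + 1)`.
* `ESide o s` : an admissible group `E` acting on `I → K`, with everything `KernelDatum` needs.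
* `StmtESide` : exists for every `ALGOut`.
-/

set_option autoImplicit false
set_option linter.dupNamespace false

open CategoryTheory Opposite TensorProduct

noncomputable section

namespace Groth.Agent.ResProp.EF.K303

open K784.BC K784.PM K741.RP EF56 K294 Grp Arch K980 K980.BC K959 K959.CoBC

universe u

/-! ### the `k`-structures of an `OpCpx` over `R = A⟨0⟩` -/

section KStr

variable {k : Type u} [CommRing k] {A : NFᵒᵖ ⥤ CommRingCat.{u}} [GRF k A] (X : OpCpx.{u} (A.obj (op ⟨0⟩)))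

instance kK : Module k X.K := Module.compHom _ (algebraMap k (A.obj (op ⟨0⟩)))

instance kK_tower : IsScalarTower k (A.obj (op ⟨0⟩)) X.K := ⟨fun r s m => by
  change (r • s) • m = algebraMap k (A.obj (op ⟨0⟩)) r • (s • m)
  rw [Algebra.smul_def, mul_smul]⟩

instance kQ : Algebra k X.Q := ((algebraMap (A.obj (op ⟨0⟩)) X.Q).comp (algebraMap k (A.obj (op ⟨0⟩)))).toAlgebra

instance kQ_tower : IsScalarTower k (A.obj (op ⟨0⟩)) X.Q := IsScalarTower.of_algebraMap_eq' rfl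

instance kQK_tower : IsScalarTower k X.Q X.K := ⟨fun r q m => by
  rw [← algebraMap_smul (A.obj (op ⟨0⟩)) r q, smul_assoc]
  rfl⟩

/-- the graded piece `F m / F (m + 1)` -/
abbrev GrF (m : ℕ) : Type u := X.F m ⧸ (X.F (m + 1)).comap (X.F m).subtype

/-- `F m → K`, `k`-linear -/
def incF (m : ℕ) : X.F m →ₗ[k] X.K := (X.F m).subtype.restrictScalars k

/-- `F m → gr^m`, `k`-linear -/
def mkF (m : ℕ) : X.F m →ₗ[k] GrF X m := ((X.F (m + 1)).comap (X.F m).subtype).mkQ.restrictScalars k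

end KStr

/-! ### the arrows over `A⟨n⟩` -/

section Arr

variable {k : Type u} [CommRing k] {A : NFᵒᵖ ⥤ CommRingCat.{u}} [GRF k A]

variable (k A) in
/-- `k ⊗ A⟨n⟩ → A⟨n⟩` -/
def lidR (n : ℕ) : k ⊗[k] A.obj (op ⟨n⟩) →+* A.obj (op ⟨n⟩) := (Algebra.TensorProduct.lid k _).toRingHom

theorem lidR_xp (n : ℕ) (i : Fin (n + 1)) : (lidR k A n).comp (xp k A k n i) = vx A ⟨n⟩ i := by
  ext r
  change Algebra.TensorProduct.lid k (A.obj (op ⟨n⟩)) (1 ⊗ₜ rg A (pt ⟨n⟩ i) r) = rg A (pt ⟨n⟩ i) r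
  rw [Algebra.TensorProduct.lid_tmul, one_smul]

/-- the arrow `i → j` over `A⟨n⟩` -/
def arA {H : K104.GFun k} {P : PGpd.{u} (A.obj (op ⟨0⟩))} (L : Lev k A H P) (n : ℕ) (i j : Fin (n + 1)) :
    P.Hom (vx A ⟨n⟩ i) (vx A ⟨n⟩ j) := P.pull (lidR k A n) (lidR_xp n i) (lidR_xp n j) (L.ar k n i j 1)

end Arr

/-! ### the E-side -/

section Out

variable {k : Type u} [CommRing k] {A : NFᵒᵖ ⥤ CommRingCat.{u}} [GRF k A] {x : PrimeSpectrum (A.obj (op ⟨0⟩))}
  {c : CoverDatum k A x} (o : ALGOut c)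

/-- the descent datum is a lift of the arrow `0 → 1` over `A⟨1⟩` -/
def Glued (s : Desc A o.X.K) : Prop := s.σ ∈ o.X.L (arA o.lev 1 0 1)

/-- `Q → D⟨0⟩` -/
def piR : o.X.Q →ₐ[A.obj (op ⟨0⟩)] c.Y.D.obj (op ⟨0⟩) := (o.iD : o.X.D →ₐ[A.obj (op ⟨0⟩)] c.Y.D.obj (op ⟨0⟩)).comp o.X.π

/-- `Q → D⟨0⟩`, `k`-linear -/
def piK : o.X.Q →ₗ[k] c.Y.D.obj (op ⟨0⟩) := (piR o).toLinearMap.restrictScalars k

/-- **The E-side.** -/
structure ESide (s : Desc A o.X.K) : Type (u + 1) where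
  E : Gp k
  ι : c.H.O →ₐc[k] E.O
  adm : Adm c.H E ι
  I : Type
  [fI : Fintype I]
  [dI : DecidableEq I]
  [nI : Nonempty I]
  /-- the coaction of `E` on `I → K` -/
  coE : HopfRep.Comod k E.O (I → o.X.K)
  lin : ∀ (r : A.obj (op ⟨0⟩)) (m : I → o.X.K), coE.coact (r • m) = (CoBC.mul k (I → o.X.K) r).rTensor E.O (coE.coact m)
  /-- it commutes with the descent datum -/
  equi : ∀ m : I → o.X.K, coB (hk A k ⟨1⟩ 1) coE.coact lin ((s.pow I).σ (bc (vx A ⟨1⟩ 0) m)) =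
    ((s.pow I).σ.toLinearMap.restrictScalars k).rTensor E.O (coB (hk A k ⟨1⟩ 0) coE.coact lin (bc (vx A ⟨1⟩ 0) m))
  co_d : ∀ m : I → o.X.K, coE.coact ((o.X.d.restrictScalars k).compLeft I m) =
    ((o.X.d.restrictScalars k).compLeft I).rTensor E.O (coE.coact m)
  co_pr : ∀ (i : Fin (o.X.e + 1)) (m : I → o.X.K), coE.coact (((o.X.pr i).restrictScalars k).compLeft I m) =
    (((o.X.pr i).restrictScalars k).compLeft I).rTensor E.O (coE.coact m)
  /-- the coaction of `H` on the graded pieces -/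
  coH : ∀ m : ℕ, HopfRep.Comod k c.H.O (I → GrF o.X.toOpCpx m)
  compat : ∀ (m : ℕ) (y : I → o.X.F m), ∃ z : (I → o.X.F m) ⊗[k] E.O,
    ((incF o.X.toOpCpx m).compLeft I).rTensor E.O z = coE.coact ((incF (k := k) o.X.toOpCpx m).compLeft I y) ∧
    ((mkF o.X.toOpCpx m).compLeft I).rTensor E.O z =
      (ι : c.H.O →ₐ[k] E.O).toLinearMap.lTensor (I → GrF o.X.toOpCpx m) ((coH m).coact ((mkF (k := k) o.X.toOpCpx m).compLeft I y))
  /-- the Hopf module formula, for every lift `y ∈ Q ⊗ O(H)` of `ρ_D (π q)` -/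
  hopf : ∀ (m : ℕ) (q : o.X.Q) (y : o.X.Q ⊗[k] c.H.O), (piK o).rTensor c.H.O y = (c.ρ ⟨0⟩).ρ (piK o q) →
    ∀ g : I → GrF o.X.toOpCpx m, (coH m).coact (q • g) =
      TensorProduct.map₂ (Algebra.lsmul k k (I → GrF o.X.toOpCpx m)).toLinearMap (LinearMap.mul k c.H.O) y ((coH m).coact g)

attribute [instance] ESide.fI ESide.dI ESide.nI

end Out

/-- **AD1 + AD2 + AD3 + G5 + E-side** -/
def StmtESide : Prop := ∀ (p : ℕ) (k : Type u) [CommRing k] [IsLb p k] (A : NFᵒᵖ ⥤ CommRingCat.{u}) [GRF k A]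
  (x : PrimeSpectrum (A.obj (op ⟨0⟩))) (c : CoverDatum k A x) (o : ALGOut c),
  ∃ s : Desc A o.X.K, Glued o s ∧ Nonempty (ESide o s)

/-- **assembly** -/
def StmtAsm : Prop := ∀ (p : ℕ) (k : Type u) [CommRing k] [IsLb p k] (A : NFᵒᵖ ⥤ CommRingCat.{u}) [GRF k A]
  (x : PrimeSpectrum (A.obj (op ⟨0⟩))) (c : CoverDatum k A x) (o : ALGOut c) (s : Desc A o.X.K), Glued o s → ESide o s →
  Nonempty (KernelDatum c)

theorem stmtCons (h1 : StmtESide.{u}) (h2 : StmtAsm.{u}) : StmtCons.{u} := by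
  intro p k _ _ A _ x c o
  obtain ⟨s, hs, ⟨e⟩⟩ := h1 p k A x c o
  exact h2 p k A x c o s hs e

end Groth.Agent.ResProp.EF.K303
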