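import Groth.Agent.ResProp.EF.K303.SSub

/-!
# Chains of stable submodules (AD4 (2), helper303)

`comapS h W'` : the submodule `W' ≤ W` as a submodule of `sub X W h`; `stab_comapS`; `Hom.restr`; `small_of_chain`.
-/

set_option autoImplicit false
set_option linter.dupNamespace false
set_option backward.isDefEq.respectTransparency false

open CategoryTheory Opposite TensorProduct

noncomputable section

namespace Groth.Agent.ResProp.EF.K303

open K784.BC K784.PM K741.RP EF56 Grp Arch K276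

universe u

variable {k : Type u} [CommRing k] {A : NFᵒᵖ ⥤ CommRingCat.{u}} [GRF k A] {E : Gp k}
  {P : Type u} [CommRing P] [Algebra (A.obj (op ⟨0⟩)) P]

variable {X : SObj k A E P} {W : Submodule P (X.M.obj ⟨0⟩)}

/-- the inclusion at `⟨0⟩` as a `P`-linear map -/
def incP (h : Stab X W) : (sub X W h).M.obj ⟨0⟩ →ₗ[P] X.M.obj ⟨0⟩ where
  toFun := subInc h ⟨0⟩
  map_add' := map_add _
  map_smul' _ _ := rfl

theorem incP_injective (h : Stab X W) : Function.Injective (incP h) := subInc_injective h ⟨0⟩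

theorem incP_mem (h : Stab X W) (m : (sub X W h).M.obj ⟨0⟩) : incP h m ∈ W := mem_gen_zero.1 m.2

theorem exists_incP (h : Stab X W) {m : X.M.obj ⟨0⟩} (hm : m ∈ W) : ∃ n, incP h n = m :=
  ⟨⟨m, mem_gen_zero.2 hm⟩, rfl⟩

/-- a submodule of `W` -/
def comapS (h : Stab X W) (W' : Submodule P (X.M.obj ⟨0⟩)) : Submodule P ((sub X W h).M.obj ⟨0⟩) :=
  W'.comap (incP h)

theorem mem_comapS (h : Stab X W) {W' : Submodule P (X.M.obj ⟨0⟩)} {m : (sub X W h).M.obj ⟨0⟩} :
    m ∈ comapS h W' ↔ incP h m ∈ W' := Iff.rfl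

theorem subInc_mem_span (h : Stab X W) {W' : Submodule P (X.M.obj ⟨0⟩)} (hle : W' ≤ W) {a : NF} (i : Fin (a.n + 1))
    {m : (sub X W h).M.obj a}
    (hm : (subHom X W h).f a m ∈ Submodule.span (A.obj (op a)) (X.M.map (pt a i) '' (rS X W'))) :
    m ∈ Submodule.span (A.obj (op a)) ((sub X W h).M.map (pt a i) '' (rS (sub X W h) (comapS h W'))) := by
  have e : X.M.map (pt a i) '' (rS X W') =
      (subHom X W h).f a '' ((sub X W h).M.map (pt a i) '' (rS (sub X W h) (comapS h W'))) := by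
    ext z
    constructor
    · rintro ⟨w, hw, rfl⟩
      obtain ⟨n, hn⟩ := exists_incP h (hle hw)
      refine ⟨_, ⟨n, ?_, rfl⟩, ?_⟩
      · change incP h n ∈ W'
        rw [hn]
        exact hw
      · change X.M.map (pt a i) (incP h n) = _
        rw [hn]
    · rintro ⟨_, ⟨n, hn, rfl⟩, rfl⟩
      exact ⟨incP h n, hn, rfl⟩
  rw [e, ← Submodule.map_span] at hm
  obtain ⟨m', hm', he⟩ := hm
  rwa [← subHom_injective X W h a he]

theorem stab_comapS (h : Stab X W) {W' : Submodule P (X.M.obj ⟨0⟩)} (hle : W' ≤ W) (h' : Stab X W') :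
    Stab (sub X W h) (comapS h W') where
  gam n hn := by
    have h1 := h'.gam (incP h n) hn
    exact ⟨subInc_mem_span h hle 1 h1.1, subInc_mem_span h hle 0 h1.2⟩
  e n hn := by
    obtain ⟨y, hy⟩ := h'.e (incP h n) hn
    let f : ((rS X W').restrictScalars k) →ₗ[k] ((rS (sub X W h) (comapS h W')).restrictScalars k) :=
      { toFun := fun w => ⟨⟨w.1, mem_gen_zero.2 (hle w.2)⟩, w.2⟩
        map_add' := fun _ _ => rfl
        map_smul' := fun _ _ => rfl }
    refine ⟨f.rTensor E.O y, ?_⟩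
    apply subInc_rTensor_injective h ⟨0⟩
    change _ = ((subInc h ⟨0⟩).restrictScalars k).rTensor E.O ((subC h ⟨0⟩).coact n)
    rw [subC_spec]
    refine Eq.trans ?_ hy
    have e : ((subInc h ⟨0⟩).restrictScalars k) ∘ₗ
        ((rS (sub X W h) (comapS h W')).restrictScalars k).subtype ∘ₗ f =
        ((rS X W').restrictScalars k).subtype := LinearMap.ext fun _ => rfl
    rw [← e, LinearMap.rTensor_comp, LinearMap.rTensor_comp]
    rfl

section Restr

variable {Y : SObj k A E P} (f : X.Hom Y) {V : Submodule P (Y.M.obj ⟨0⟩)} (h : Stab X W) (hV : Stab Y V)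
    (hf : ∀ w ∈ W, f.f ⟨0⟩ w ∈ V)

include hf in
theorem restr_key (a : NF) (m : X.M.obj a) (hm : m ∈ gen X.M (rS X W) a) : f.f a m ∈ gen Y.M (rS Y V) a := by
  have h1 : f.f a m ∈ (gen X.M (rS X W) a).map (f.f a) := ⟨m, hm, rfl⟩
  rw [gen, Submodule.map_span] at h1
  refine Submodule.span_mono ?_ h1
  rintro _ ⟨_, ⟨w, hw, rfl⟩, rfl⟩
  exact ⟨f.f ⟨0⟩ w, hf w hw, (f.nat (pt a 0) w).symm⟩

/-- the restriction on one level -/
def restrF (a : NF) : (subPM h).obj a →ₗ[A.obj (op a)] (subPM hV).obj a :=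
  (f.f a).restrict (restr_key f hf a)

theorem restrF_inc (a : NF) (m : (subPM h).obj a) : subInc hV a (restrF f h hV hf a m) = f.f a (subInc h a m) := rfl

theorem restrF_equi (a : NF) (m : (subPM h).obj a) :
    (subC hV a).coact (restrF f h hV hf a m) =
      ((restrF f h hV hf a).restrictScalars k).rTensor E.O ((subC h a).coact m) := by
  apply subInc_rTensor_injective hV a
  rw [subC_spec, restrF_inc, f.equi, ← subC_spec]
  exact (rTensor_square (((restrF f h hV hf a)).restrictScalars k) ((f.f a).restrictScalars k)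
        ((subInc h a).restrictScalars k) ((subInc hV a).restrictScalars k) (fun _ => rfl) _)

/-- the restriction of a morphism to subobjects -/
def restrHom : (sub X W h).Hom (sub Y V hV) where
  f a := restrF f h hV hf a
  nat φ m := subInc_injective hV _ (f.nat φ m.1)
  equi a m := restrF_equi f h hV hf a m
  pl q m := subInc_injective hV _ (f.pl q m.1)

end Restr

theorem restrHom_apply {Y : SObj k A E P} (f : X.Hom Y) {V : Submodule P (Y.M.obj ⟨0⟩)} (h : Stab X W)
    (hV : Stab Y V) (hf : ∀ w ∈ W, f.f ⟨0⟩ w ∈ V) (a : NF) (m : (sub X W h).M.obj a) :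
    (subHom Y V hV).f a ((restrHom f h hV hf).f a m) = f.f a ((subHom X W h).f a m) := rfl

/-- the identity -/
def idHom (X : SObj k A E P) : X.Hom X where
  f a := LinearMap.id
  nat _ _ := rfl
  equi a m := by
    have e : (LinearMap.id : X.M.obj a →ₗ[A.obj (op a)] X.M.obj a).restrictScalars k = LinearMap.id := rfl
    rw [e, LinearMap.rTensor_id]
    rfl
  pl _ _ := rfl

/-- the inclusion of subobjects -/
def subLe {W' : Submodule P (X.M.obj ⟨0⟩)} (h' : Stab X W') (h : Stab X W) (hle : W' ≤ W) :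
    (sub X W' h').Hom (sub X W h) := restrHom (idHom X) h' h fun _ hw => hle hw

theorem subLe_apply {W' : Submodule P (X.M.obj ⟨0⟩)} (h' : Stab X W') (h : Stab X W) (hle : W' ≤ W)
    (a : NF) (m : (sub X W' h').M.obj a) :
    (subHom X W h).f a ((subLe h' h hle).f a m) = (subHom X W' h').f a m := rfl

theorem subLe_injective {W' : Submodule P (X.M.obj ⟨0⟩)} (h' : Stab X W') (h : Stab X W) (hle : W' ≤ W) (a : NF) :
    Function.Injective ((subLe h' h hle).f a) := fun m n hmn => by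
  apply subHom_injective X W' h' a
  rw [← subLe_apply h' h hle, ← subLe_apply h' h hle, hmn]

/-- the graded piece `W / W'` -/
def grS (X : SObj k A E P) {W W' : Submodule P (X.M.obj ⟨0⟩)} (h : Stab X W) (h' : Stab X W') (hle : W' ≤ W) :
    SObj k A E P := quo (sub X W h) (comapS h W') (stab_comapS h hle h')

/-- the projection -/
def grHom {W' : Submodule P (X.M.obj ⟨0⟩)} (h : Stab X W) (h' : Stab X W') (hle : W' ≤ W) :
    (sub X W h).Hom (grS X h h' hle) := quoHom (sub X W h) (comapS h W') (stab_comapS h hle h')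

theorem grHom_surjective {W' : Submodule P (X.M.obj ⟨0⟩)} (h : Stab X W) (h' : Stab X W') (hle : W' ≤ W) (a : NF) :
    Function.Surjective ((grHom h h' hle).f a) := quoHom_surjective _ _ _ a

theorem grHom_eq_zero {W' : Submodule P (X.M.obj ⟨0⟩)} (h : Stab X W) (h' : Stab X W') (hle : W' ≤ W)
    (m : (sub X W h).M.obj ⟨0⟩) : (grHom h h' hle).f ⟨0⟩ m = 0 ↔ incP h m ∈ W' := quoHom_eq_zero _ _ _ m

variable {x : PrimeSpectrum (A.obj (op ⟨0⟩))} (c : CoverDatum k A x) (ι : c.H.O →ₐc[k] E.O)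
  (π : P →ₐ[A.obj (op ⟨0⟩)] c.Y.D.obj (op ⟨0⟩))

theorem small_sub_of_gr {W' : Submodule P (X.M.obj ⟨0⟩)} (h : Stab X W) (h' : Stab X W') (hle : W' ≤ W)
    (s' : Small c ι π (sub X W' h')) (s : Small c ι π (grS X h h' hle)) : Small c ι π (sub X W h) := by
  refine Small.ext _ _ _ (subLe h' h hle) (grHom h h' hle) (subLe_injective h' h hle ⟨0⟩) ?_
    (grHom_surjective h h' hle ⟨0⟩) s' s
  intro m
  rw [grHom_eq_zero]
  constructor
  · intro hm
    obtain ⟨n, hn⟩ := exists_incP h' hm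
    exact ⟨n, incP_injective h hn⟩
  · rintro ⟨n, rfl⟩
    exact incP_mem h' n

/-- **small_of_chain** -/
theorem small_of_chain (N : ℕ) (F : ℕ → Submodule P (X.M.obj ⟨0⟩)) (hS : ∀ m, Stab X (F m))
    (ha : ∀ m, F (m + 1) ≤ F m) (hN : F N = ⊥)
    (hp : ∀ m, m < N → Small c ι π (grS X (hS m) (hS (m + 1)) (ha m))) (m : ℕ) (hm : m ≤ N) :
    Small c ι π (sub X (F m) (hS m)) := by
  obtain ⟨n, rfl⟩ := Nat.exists_eq_add_of_le hm
  clear hm
  induction n generalizing m with
  | zero =>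
    refine Small.zero _ ⟨fun a b => ?_⟩
    apply incP_injective (hS m)
    have hN' : F m ≤ ⊥ := le_of_eq hN
    have h1 := hN' (incP_mem (hS m) a)
    have h2 := hN' (incP_mem (hS m) b)
    exact ((Submodule.mem_bot P).1 h1).trans ((Submodule.mem_bot P).1 h2).symm
  | succ n ih =>
    have e : m + (n + 1) = m + 1 + n := by omega
    exact small_sub_of_gr c ι π (hS m) (hS (m + 1)) (ha m)
      (ih (m + 1) (by rw [← e]; exact hN) (fun j hj => hp j (by omega))) (hp m (by omega))

theorem stab_top (X : SObj k A E P) : Stab X ⊤ where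
  gam n _ := by
    have h : ∀ i : Fin 2, Submodule.span (A.obj (op ⟨1⟩)) (X.M.map (pt ⟨1⟩ i) '' (rS X ⊤)) = ⊤ := by
      intro i
      have := (X.cart (pt ⟨1⟩ i)).span_range
      rw [← this]
      congr 1
      exact Set.image_univ
    rw [h 0, h 1]
    exact ⟨trivial, trivial⟩
  e n _ := by
    have h : Function.Surjective (((rS X ⊤).restrictScalars k).subtype.rTensor E.O) :=
      LinearMap.rTensor_surjective _ fun m => ⟨⟨m, trivial⟩, rfl⟩
    exact h _

theorem small_of_sub_top {F : Submodule P (X.M.obj ⟨0⟩)} (hF : F = ⊤) (h : Stab X F) (s : Small c ι π (sub X F h)) :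
    Small c ι π X := by
  subst hF
  -- the quotient of `X` by `⊤` is zero
  refine Small.ext _ _ _ (subHom X ⊤ h) (quoHom X ⊤ h) (subHom_injective X ⊤ h ⟨0⟩) (exact_sub_quo X ⊤ h)
    (quoHom_surjective X ⊤ h ⟨0⟩) s (Small.zero _ ⟨fun a b => ?_⟩)
  obtain ⟨a, rfl⟩ := quoHom_surjective X ⊤ h ⟨0⟩ a
  obtain ⟨b, rfl⟩ := quoHom_surjective X ⊤ h ⟨0⟩ b
  rw [(quoHom_eq_zero X ⊤ h a).2 trivial, (quoHom_eq_zero X ⊤ h b).2 trivial]

theorem small_of_chain_top (N : ℕ) (F : ℕ → Submodule P (X.M.obj ⟨0⟩)) (hS : ∀ m, Stab X (F m)) (h0 : F 0 = ⊤)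
    (ha : ∀ m, F (m + 1) ≤ F m) (hN : F N = ⊥)
    (hp : ∀ m, m < N → Small c ι π (grS X (hS m) (hS (m + 1)) (ha m))) : Small c ι π X :=
  small_of_sub_top c ι π h0 (hS 0) (small_of_chain c ι π N F hS ha hN hp 0 (Nat.zero_le _))

end Groth.Agent.ResProp.EF.K303
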