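import Groth.Agent.ResProp.EF.X56.NF
import Groth.Agent.StMod.K784.Semi

/-!
# Descent data give cartesian presheaves of modules (AD4, helper303)

`VSys A` : a family of modules `V a i` (`i` a vertex of `a`), with base change maps `tr` along all arrows (model free: think of
`V a i = A⟨a⟩ ⊗[R, pt i] K`).  `VSys.Desc` : a descent datum `ψ a i j : V a i ≃ V a j`, natural, with the cocycle condition.
`VSys.pm` : the presheaf of modules with value `V a 0` at `a`; `VSys.pm_cart`; `VSys.Desc.homPM` : maps.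
-/

set_option autoImplicit false
set_option linter.dupNamespace false

open CategoryTheory Opposite

namespace Groth.Agent.ResProp.EF.K303

open K784.BC K784.PM K741.RP EF56

universe w w' u

/-- the action of an arrow on vertices -/
abbrev vt {a b : NF} (φ : a ⟶ b) (i : Fin (b.n + 1)) : Fin (a.n + 1) :=
  (show Fin (b.n + 1) → Fin (a.n + 1) from φ) i

variable (A : NFᵒᵖ ⥤ CommRingCat.{u})

/-- a family of modules on the vertices with base change maps -/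
structure VSys where
  V : (a : NF) → Fin (a.n + 1) → Type w
  [grp : ∀ a i, AddCommGroup (V a i)]
  [mod : ∀ a i, Module (A.obj (op a)) (V a i)]
  tr : ∀ {a b : NF} (φ : a ⟶ b) (i : Fin (b.n + 1)) (j : Fin (a.n + 1)), vt φ i = j → (V b i →+ V a j)
  tr_bc : ∀ {a b : NF} (φ : a ⟶ b) (i : Fin (b.n + 1)) (j : Fin (a.n + 1)) (h : vt φ i = j),
    IsBC (rg A φ) (tr φ i j h)
  tr_id : ∀ (a : NF) (i : Fin (a.n + 1)) (x : V a i), tr (𝟙 a) i i rfl x = x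
  tr_comp : ∀ {a b c : NF} (χ : a ⟶ b) (φ : b ⟶ c) (i : Fin (c.n + 1)) (j : Fin (b.n + 1))
    (k : Fin (a.n + 1)) (h : vt φ i = j) (h' : vt χ j = k) (h'' : vt (χ ≫ φ) i = k) (x : V c i),
    tr (χ ≫ φ) i k h'' x = tr χ j k h' (tr φ i j h x)

attribute [instance] VSys.grp VSys.mod

variable {A}

namespace VSys

/-- a descent datum -/
structure Desc (X : VSys.{w} A) where
  ψ : ∀ (a : NF) (i j : Fin (a.n + 1)), X.V a i →ₗ[A.obj (op a)] X.V a j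
  nat : ∀ {a b : NF} (φ : a ⟶ b) (i j : Fin (b.n + 1)) (i' j' : Fin (a.n + 1)) (hi : vt φ i = i')
    (hj : vt φ j = j') (x : X.V b i), X.tr φ j j' hj (ψ b i j x) = ψ a i' j' (X.tr φ i i' hi x)
  coc : ∀ (a : NF) (i j k : Fin (a.n + 1)) (x : X.V a i), ψ a j k (ψ a i j x) = ψ a i k x
  one : ∀ (a : NF) (i : Fin (a.n + 1)) (x : X.V a i), ψ a i i x = x

variable {X : VSys.{w} A} (P : X.Desc)

/-- the presheaf of modules -/
def Desc.pm : PM.{w} A where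
  obj a := X.V a 0
  map {a b} φ := ((P.ψ a (vt φ 0) 0).toAddMonoidHom).comp (X.tr φ 0 (vt φ 0) rfl)
  map_smul {a b} φ r m := by
    have h := (X.tr_bc φ 0 (vt φ 0) rfl).map_smul r m
    change P.ψ a (vt φ 0) 0 (X.tr φ 0 (vt φ 0) rfl (r • m)) = _
    rw [h, map_smul]
    rfl
  map_id a m := by
    change P.ψ a (vt (𝟙 a) 0) 0 (X.tr (𝟙 a) 0 (vt (𝟙 a) 0) rfl m) = m
    have h1 : X.tr (𝟙 a) 0 (vt (𝟙 a) 0) rfl m = m := X.tr_id a 0 m
    rw [h1]
    exact P.one a 0 m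
  map_comp {c b a} χ φ m := by
    change P.ψ c (vt (χ ≫ φ) 0) 0 (X.tr (χ ≫ φ) 0 (vt (χ ≫ φ) 0) rfl m) =
      P.ψ c (vt χ 0) 0 (X.tr χ 0 (vt χ 0) rfl (P.ψ b (vt φ 0) 0 (X.tr φ 0 (vt φ 0) rfl m)))
    rw [P.nat χ (vt φ 0) 0 (vt χ (vt φ 0)) (vt χ 0) rfl rfl, P.coc,
      X.tr_comp χ φ 0 (vt φ 0) (vt (χ ≫ φ) 0) rfl rfl rfl]
    rfl

/-- `ψ` as an equivalence -/
def Desc.eqv (a : NF) (i j : Fin (a.n + 1)) : X.V a i ≃ₗ[A.obj (op a)] X.V a j :=
  LinearEquiv.ofLinearMap (P.ψ a i j) (P.ψ a j i) (LinearMap.ext fun x => by simp [P.coc, P.one])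
    (LinearMap.ext fun x => by simp [P.coc, P.one])

theorem Desc.pm_cart : P.pm.Cart := fun a b φ => by
  have h := X.tr_bc φ 0 (vt φ 0) rfl
  exact h.of_equiv (P.eqv a (vt φ 0) 0) fun _ => rfl

theorem Desc.pm_map {a b : NF} (φ : a ⟶ b) (m : P.pm.obj b) :
    P.pm.map φ m = P.ψ a (vt φ 0) 0 (X.tr φ 0 (vt φ 0) rfl m) := rfl

variable {Y : VSys.{w'} A} (Q : Y.Desc)

/-- a compatible family of maps -/
structure Hom (X : VSys.{w} A) (Y : VSys.{w'} A) where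
  f : ∀ (a : NF) (i : Fin (a.n + 1)), X.V a i →ₗ[A.obj (op a)] Y.V a i
  tr : ∀ {a b : NF} (φ : a ⟶ b) (i : Fin (b.n + 1)) (j : Fin (a.n + 1)) (h : vt φ i = j) (x : X.V b i),
    Y.tr φ i j h (f b i x) = f a j (X.tr φ i j h x)

theorem Desc.pm_hom {P : X.Desc} {Q : Y.Desc} (g : Hom X Y)
    (hg : ∀ (a : NF) (i j : Fin (a.n + 1)) (x : X.V a i), Q.ψ a i j (g.f a i x) = g.f a j (P.ψ a i j x))
    ⦃a b : NF⦄ (φ : a ⟶ b) (e : P.pm.obj b) : g.f a 0 (P.pm.map φ e) = Q.pm.map φ (g.f b 0 e) := by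
  change g.f a 0 (P.ψ a (vt φ 0) 0 (X.tr φ 0 (vt φ 0) rfl e))
    = Q.ψ a (vt φ 0) 0 (Y.tr φ 0 (vt φ 0) rfl (g.f b 0 e))
  have h := g.tr φ 0 (vt φ 0) rfl (show X.V b 0 from e)
  exact (hg _ _ _ _).symm.trans (congrArg (Q.ψ a (vt φ 0) 0) h.symm)

end VSys

end Groth.Agent.ResProp.EF.K303
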