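import Groth.Agent.ResProp.EF.K303.KCx
import Groth.Agent.ResProp.EF.K787.AdmRetr
import Groth.Agent.ResProp.EF.K661.GluedOut

/-!
# The graded pieces of the terms (AD4, helper303)

`prG n m` : the projection to degree `n` on `F m / F (m + 1)`; `GN e n m` its image on `I → gr`, a subcomodule for `coH m`.
-/

set_option autoImplicit false
set_option linter.dupNamespace false
set_option backward.isDefEq.respectTransparency false

open CategoryTheory Opposite TensorProduct

noncomputable section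

namespace Groth.Agent.ResProp.EF.K303

open K784.BC K784.PM K741.RP EF56 K294 Grp Arch K980 K980.BC K959 K959.CoBC K276

universe u v

section Abs

variable {k : Type*} [CommRing k] {M F G W G' O O' : Type*} [AddCommGroup M] [Module k M] [AddCommGroup F] [Module k F]
  [AddCommGroup G] [Module k G] [AddCommGroup W] [Module k W] [AddCommGroup G'] [Module k G'] [AddCommGroup O]
  [Module k O] [AddCommGroup O'] [Module k O']

theorem rl_comm (f : M →ₗ[k] G) (g : O →ₗ[k] O') (y : M ⊗[k] O) :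
    f.rTensor O' (g.lTensor M y) = g.lTensor G (f.rTensor O y) := by
  rw [← LinearMap.comp_apply, ← LinearMap.comp_apply, LinearMap.rTensor_comp_lTensor, LinearMap.lTensor_comp_rTensor]

theorem compat_abs (inc : F →ₗ[k] M) (mk : F →ₗ[k] G) (pM : M →ₗ[k] M) (pG : G →ₗ[k] G) (f : F →ₗ[k] W)
    (i : W →ₗ[k] M) (p : W →ₗ[k] G') (j : G' →ₗ[k] G) (h1 : ∀ y, i (f y) = pM (inc y))
    (h2 : ∀ y, j (p (f y)) = pG (mk y)) (z : F ⊗[k] O) :
    i.rTensor O (f.rTensor O z) = pM.rTensor O (inc.rTensor O z) ∧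
      j.rTensor O (p.rTensor O (f.rTensor O z)) = pG.rTensor O (mk.rTensor O z) := by
  constructor
  · exact rTensor_square inc i f pM h1 z
  · have := rTensor_square mk j (p ∘ₗ f) pG h2 z
    rw [LinearMap.rTensor_comp, LinearMap.comp_apply] at this
    exact this

end Abs

section

variable {A : NFᵒᵖ ⥤ CommRingCat.{u}} (X : OpCpx.{u} (A.obj (op ⟨0⟩))) (n : ℤ) (m : ℕ)

/-- the projection on `F m` -/
def prF : X.F m →ₗ[X.Q] X.F m := (X.prz n).restrict fun _ hv => prz_F X n m hv

/-- the projection on the graded piece -/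
def prG : GrF X m →ₗ[X.Q] GrF X m :=
  Submodule.mapQ ((X.F (m + 1)).comap (X.F m).subtype) ((X.F (m + 1)).comap (X.F m).subtype) (prF X n m)
    fun _ hv => prz_F X n (m + 1) hv

/-- the class of an element -/
def clF : X.F m →ₗ[X.Q] GrF X m := ((X.F (m + 1)).comap (X.F m).subtype).mkQ

theorem clF_surjective : Function.Surjective (clF X m) := Submodule.mkQ_surjective _

theorem clF_eq_zero {v : X.F m} : clF X m v = 0 ↔ (v : X.K) ∈ X.F (m + 1) := by
  rw [clF, Submodule.mkQ_apply, Submodule.Quotient.mk_eq_zero]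
  rfl

theorem prG_cl (v : X.F m) : prG X n m (clF X m v) = clF X m (prF X n m v) := rfl

theorem prF_prF (v : X.F m) : prF X n m (prF X n m v) = prF X n m v := Subtype.ext (prz_prz X n v)

theorem prG_prG (g : GrF X m) : prG X n m (prG X n m g) = prG X n m g := by
  obtain ⟨v, rfl⟩ := clF_surjective X m g
  rw [prG_cl, prG_cl, prF_prF]

end

variable {k : Type u} [CommRing k] {A : NFᵒᵖ ⥤ CommRingCat.{u}} [GRF k A] {x : PrimeSpectrum (A.obj (op ⟨0⟩))}
  {c : CoverDatum k A x} {o : ALGOut c} {s : Desc A o.X.K} (e : ESide o s) (n : ℤ) (m : ℕ)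

theorem GFacts.of_glued (hs : Glued o s) : GFacts o s :=
  ⟨hs.isHom_d, hs.isHom_pr, hs.σ_F, hs.symm_F⟩

/-- the degree `n` part of `I → gr^m` -/
def GN : Submodule o.X.Q (e.I → GrF o.X.toOpCpx m) := Submodule.pi Set.univ fun _ => LinearMap.range (prG o.X.toOpCpx n m)

theorem mem_GN {g : e.I → GrF o.X.toOpCpx m} : g ∈ GN e n m ↔ ∀ i, prG o.X.toOpCpx n m (g i) = g i := by
  rw [GN, Submodule.mem_pi]
  constructor
  · intro h i
    obtain ⟨v, hv⟩ := h i (Set.mem_univ i)
    rw [← hv, prG_prG]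
  · intro h i _
    exact ⟨_, h i⟩

/-- `k`-linear versions -/
def prGk : GrF o.X.toOpCpx m →ₗ[k] GrF o.X.toOpCpx m := (prG o.X.toOpCpx n m).restrictScalars k

theorem inc_injective : Function.Injective ((incF (k := k) o.X.toOpCpx m).compLeft e.I) := fun a b h =>
  funext fun i => Subtype.ext (congrFun h i)

theorem inc_rTensor_injective :
    Function.Injective (((incF (k := k) o.X.toOpCpx m).compLeft e.I).rTensor e.E.O) :=
  Module.Flat.rTensor_preserves_injective_linearMap _ (inc_injective e m)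

/-- `(F m ∩ deg n)^I` as a `k`-module -/
abbrev WFk : Submodule k (e.I → o.X.K) := ((WF e n m).restrictScalars (A.obj (op ⟨0⟩))).restrictScalars k

/-- `(F m ∩ deg n)^I → gr` -/
def pG : WF e n m →ₗ[o.X.Q] GN e n m where
  toFun v := ⟨fun i => clF o.X.toOpCpx m ⟨v.1 i, ((mem_WF e).1 v.2 i).1⟩, (mem_GN e n m).2 fun i => by
    rw [prG_cl]
    congr 1
    exact Subtype.ext ((mem_WF e).1 v.2 i).2⟩
  map_add' _ _ := rfl
  map_smul' _ _ := rfl

theorem pG_apply (v : WF e n m) (i : e.I) :
    (pG e n m v : e.I → GrF o.X.toOpCpx m) i = clF o.X.toOpCpx m ⟨v.1 i, ((mem_WF e).1 v.2 i).1⟩ := rfl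

theorem pG_surjective : Function.Surjective (pG e n m) := by
  rintro ⟨g, hg⟩
  rw [mem_GN] at hg
  choose y hy using fun i => clF_surjective o.X.toOpCpx m (g i)
  refine ⟨⟨fun i => prF o.X.toOpCpx n m (y i), (mem_WF e).2 fun i => ⟨(prF o.X.toOpCpx n m (y i)).2,
    prz_prz o.X.toOpCpx n _⟩⟩, Subtype.ext (funext fun i => ?_)⟩
  rw [pG_apply]
  change clF o.X.toOpCpx m (prF o.X.toOpCpx n m (y i)) = g i
  rw [← prG_cl, hy, hg]

theorem pG_eq_zero {v : WF e n m} : pG e n m v = 0 ↔ (v : e.I → o.X.K) ∈ WF e n (m + 1) := by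
  rw [mem_WF, Subtype.ext_iff, funext_iff]
  refine forall_congr' fun i => ?_
  rw [pG_apply]
  change clF o.X.toOpCpx m _ = 0 ↔ _
  rw [clF_eq_zero]
  exact ⟨fun h => ⟨h, ((mem_WF e).1 v.2 i).2⟩, fun h => h.1⟩

/-- the projection, `k`-linear -/
def pGk : WFk e n m →ₗ[k] ((GN e n m).restrictScalars k) where
  toFun v := pG e n m v
  map_add' _ _ := rfl
  map_smul' _ _ := rfl

variable [IsDomain k] [CharZero k]

/-- the coaction of `H` on the graded piece commutes with the projection to degree `n` -/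
theorem coH_pr (g : e.I → GrF o.X.toOpCpx m) :
    (e.coH m).coact ((prGk (o := o) (k := k) n m).compLeft e.I g) =
      ((prGk (o := o) (k := k) n m).compLeft e.I).rTensor c.H.O ((e.coH m).coact g) := by
  obtain ⟨y, rfl⟩ : ∃ y : e.I → o.X.F m, (mkF (k := k) o.X.toOpCpx m).compLeft e.I y = g := by
    choose y hy using fun i => clF_surjective o.X.toOpCpx m (g i)
    exact ⟨y, funext hy⟩
  apply K787.Adm.lTensor_injective e.adm
  obtain ⟨z, hz1, hz2⟩ := e.compat m y
  let prFk : (e.I → o.X.F m) →ₗ[k] (e.I → o.X.F m) := ((prF o.X.toOpCpx n m).restrictScalars k).compLeft e.I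
  obtain ⟨z', hz1', hz2'⟩ := e.compat m (prFk y)
  have h1 : z' = prFk.rTensor e.E.O z := by
    apply inc_rTensor_injective e m
    rw [hz1']
    have h2 : (incF (k := k) o.X.toOpCpx m).compLeft e.I (prFk y) =
      ((o.X.prz n).restrictScalars k).compLeft e.I ((incF (k := k) o.X.toOpCpx m).compLeft e.I y) := rfl
    rw [h2, e.co_prz, ← hz1]
    exact (rTensor_square ((incF (k := k) o.X.toOpCpx m).compLeft e.I) ((incF (k := k) o.X.toOpCpx m).compLeft e.I)
      prFk (((o.X.prz n).restrictScalars k).compLeft e.I) (fun _ => rfl) z).symm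
  have h3 : (mkF (k := k) o.X.toOpCpx m).compLeft e.I (prFk y) =
    (prGk (o := o) (k := k) n m).compLeft e.I ((mkF (k := k) o.X.toOpCpx m).compLeft e.I y) := rfl
  rw [← h3, ← hz2', h1]
  have h4 := rTensor_square ((mkF (k := k) o.X.toOpCpx m).compLeft e.I) ((mkF (k := k) o.X.toOpCpx m).compLeft e.I)
      prFk ((prGk (o := o) (k := k) n m).compLeft e.I) (fun _ => rfl) z
  rw [h4, hz2, rl_comm]

theorem sub_GN : @HopfRep.IsSubcomod k c.H.O _ _ _ _ (e.I → GrF o.X.toOpCpx m) _ _ (e.coH m)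
    ((GN e n m).restrictScalars k) := by
  intro g hg
  have hg' : g ∈ GN e n m := hg
  rw [mem_GN] at hg'
  have h1 : (prGk (o := o) (k := k) n m).compLeft e.I g = g := funext hg'
  have h2 := coH_pr e n m g
  rw [h1] at h2
  let f : (e.I → GrF o.X.toOpCpx m) →ₗ[k] ((GN e n m).restrictScalars k) :=
    ((prGk (o := o) (k := k) n m).compLeft e.I).codRestrict _ (fun y => by
      change _ ∈ GN e n m
      rw [mem_GN]
      exact fun i => prG_prG o.X.toOpCpx n m _)
  refine ⟨f.rTensor c.H.O ((e.coH m).coact g), ?_⟩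
  refine Eq.trans ?_ h2.symm
  rw [← LinearMap.comp_apply, ← LinearMap.rTensor_comp]
  rfl

/-- the coaction of `H` on the degree `n` part -/
@[reducible] def coHN : HopfRep.Comod k c.H.O ((GN e n m).restrictScalars k) :=
  ComodSub.Comod.restr (e.coH m) ((GN e n m).restrictScalars k) (sub_GN e n m)

theorem coHN_spec (g : (GN e n m).restrictScalars k) :
    (((GN e n m).restrictScalars k).subtype).rTensor c.H.O ((coHN e n m).coact g) =
      (e.coH m).coact (g : e.I → GrF o.X.toOpCpx m) :=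
  ComodSub.restr_coact_coe (e.coH m) ((GN e n m).restrictScalars k) (sub_GN e n m) g

end Groth.Agent.ResProp.EF.K303
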