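import Groth.Agent.ResProp.EF.K303.Terms

/-!
# The complex (AD4, helper303)
-/

set_option autoImplicit false
set_option linter.dupNamespace false
set_option backward.isDefEq.respectTransparency false

open CategoryTheory Opposite TensorProduct

noncomputable section

namespace Groth.Agent.ResProp.EF.K303

open K784.BC K784.PM K741.RP EF56 K294 Grp Arch K980 K980.BC K959 K959.CoBC K276
open Groth.Agent.ResProp.EF.Arch (Small)

universe u v

variable {k : Type u} [CommRing k] {A : NFᵒᵖ ⥤ CommRingCat.{u}} [GRF k A] {x : PrimeSpectrum (A.obj (op ⟨0⟩))}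
  {c : CoverDatum k A x} {o : ALGOut c} {s : Desc A o.X.K} {e : ESide o s}

theorem WF_last (n : ℤ) : WF e n (o.X.k + 1) = ⊥ := by
  rw [eq_bot_iff]
  intro w hw
  rw [mem_WF] at hw
  rw [Submodule.mem_bot]
  refine funext fun i => ?_
  have h := (hw i).1
  rw [o.X.F_last] at h
  exact (Submodule.mem_bot _).1 h

theorem WF_succ (n : ℤ) (m : ℕ) : WF e n (m + 1) ≤ WF e n m := fun w hw => by
  rw [mem_WF] at hw ⊢
  exact fun i => ⟨o.X.F_succ m (hw i).1, (hw i).2⟩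

theorem d_WF (n : ℤ) (m : ℕ) {v : e.I → o.X.K} (hv : v ∈ WF e n m) : (fun i => o.X.d (v i)) ∈ WF e (n + 1) m := by
  rw [mem_WF] at hv ⊢
  exact fun i => ⟨o.X.F_d m _ (hv i).1, by rw [← o.X.d_prz, (hv i).2]⟩

variable (hs : GFacts o s)

include hs

theorem isHom_d : EDesc.IsHom e.edesc e.edesc ((o.X.d.restrictScalars (A.obj (op ⟨0⟩))).compLeft e.I) where
  comm := hs.hd.compLeft e.I
  pl q m := funext fun i => o.X.d.map_smul q (m i)
  equi m := e.co_d m

/-- `d^I` -/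
def dTot (e : ESide o s) : e.Tot.Hom e.Tot := (isHom_d (e := e) hs).hom

theorem dTot_emb0 (v : e.I → o.X.K) : (dTot hs e).f ⟨0⟩ (emb0 e.edesc v) =
    emb0 e.edesc (fun i => o.X.d (v i)) := (isHom_d (e := e) hs).hom_bc v

theorem stabW (e : ESide o s) (n : ℤ) (m : ℕ) : Stab e.Tot (mapW e.edesc (WF e n m)) := (stabK_WF hs n m).stab

/-- the term of degree `n` -/
def KK (e : ESide o s) (n : ℤ) : SObj k A e.E o.X.Q := sub e.Tot (mapW e.edesc (WF e n 0)) (stabW hs e n 0)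

/-- the differential -/
def dK (e : ESide o s) (n : ℤ) : (KK hs e n).Hom (KK hs e (n + 1)) :=
  restrHom (dTot hs e) (stabW hs e n 0) (stabW hs e (n + 1) 0) (by
    rintro _ ⟨v, hv, rfl⟩
    exact ⟨_, d_WF n 0 hv, (dTot_emb0 hs v).symm⟩)

/-- `KK n ⟨0⟩ → (I → K)` -/
def uK (e : ESide o s) (n : ℤ) : (KK hs e n).M.obj ⟨0⟩ →ₗ[o.X.Q] (e.I → o.X.K) :=
  (emb0 e.edesc).symm.toLinearMap ∘ₗ incP (stabW hs e n 0)

theorem emb0_uK (n : ℤ) (m : (KK hs e n).M.obj ⟨0⟩) : emb0 e.edesc (uK hs e n m) = incP (stabW hs e n 0) m :=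
  (emb0 e.edesc).apply_symm_apply _

theorem uK_mem (n : ℤ) (m : (KK hs e n).M.obj ⟨0⟩) : uK hs e n m ∈ WF e n 0 := by
  obtain ⟨v, hv, h⟩ := incP_mem (stabW hs e n 0) m
  have h1 : uK hs e n m = v := by
    apply (emb0 e.edesc).injective
    rw [emb0_uK]
    exact h.symm
  rw [h1]
  exact hv

theorem uK_injective (n : ℤ) : Function.Injective (uK hs e n) :=
  (emb0 e.edesc).symm.injective.comp (incP_injective (stabW hs e n 0))

theorem exists_uK (n : ℤ) {v : e.I → o.X.K} (hv : v ∈ WF e n 0) : ∃ m, uK hs e n m = v := by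
  obtain ⟨m, hm⟩ := exists_incP (stabW hs e n 0) (m := emb0 e.edesc v) ⟨v, hv, rfl⟩
  refine ⟨m, (emb0 e.edesc).injective ?_⟩
  rw [emb0_uK, hm]

theorem uK_d (n : ℤ) (m : (KK hs e n).M.obj ⟨0⟩) :
    uK hs e (n + 1) ((dK hs e n).f ⟨0⟩ m) = fun i => o.X.d (uK hs e n m i) := by
  apply (emb0 e.edesc).injective
  rw [emb0_uK]
  have h1 : incP (stabW hs e (n + 1) 0) ((dK hs e n).f ⟨0⟩ m) = (dTot hs e).f ⟨0⟩ (incP (stabW hs e n 0) m) := rfl
  rw [h1, ← emb0_uK, dTot_emb0]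

/-- `KK n ⟨0⟩ ≃ (I → deg n)` -/
def eK (e : ESide o s) (n : ℤ) : (KK hs e n).M.obj ⟨0⟩ ≃ₗ[o.X.Q] (e.I → o.X.deg n) :=
  LinearEquiv.ofBijective
    (LinearMap.pi fun i => ((LinearMap.proj i : (e.I → o.X.K) →ₗ[o.X.Q] o.X.K) ∘ₗ uK hs e n).codRestrict (o.X.deg n)
      fun m => (K396.mem_deg o.X.toOpCpx).2 ((mem_WF e).1 (uK_mem hs n m) i).2)
    ⟨fun a b h => uK_injective hs n (funext fun i => congrArg Subtype.val (congrFun h i)), fun v => by
      obtain ⟨m, hm⟩ := exists_uK hs n (e := e) (v := fun i => (v i : o.X.K)) ((mem_WF e).2 fun i =>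
        ⟨by rw [o.X.F_zero]; exact Submodule.mem_top, (K396.mem_deg o.X.toOpCpx).1 (v i).2⟩)
      exact ⟨m, funext fun i => Subtype.ext (congrFun hm i)⟩⟩

theorem eK_apply (n : ℤ) (m : (KK hs e n).M.obj ⟨0⟩) (i : e.I) : (eK hs e n m i : o.X.K) = uK hs e n m i := rfl

/-- the projection `Q → D⟨0⟩` of the record -/
theorem asm_of_small (e : ESide o s)
    (small : ∀ n : ℤ, Arch.Small c e.ι (piR o) (KK hs e n)) : Nonempty (KernelDatum c) := by
  refine K396.kernelDatum_of o.X.toOpCpx o.amp o.iD e.I e.E e.ι e.adm (KK hs e) (dK hs e) (eK hs e) ?_ small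
  intro n m i
  rw [eK_apply, eK_apply, uK_d]

/-- **small from the graded pieces** -/
theorem small_KK (n : ℤ)
    (hp : ∀ m, m < o.X.k + 1 → Arch.Small c e.ι (piR o) (grS e.Tot (stabW hs e n m) (stabW hs e n (m + 1))
      (Submodule.map_mono (WF_succ n m)))) : Arch.Small c e.ι (piR o) (KK hs e n) := by
  refine small_of_chain c e.ι (piR o) (o.X.k + 1) (fun m => mapW e.edesc (WF e n m)) (fun m => stabW hs e n m)
    (fun m => Submodule.map_mono (WF_succ n m)) ?_ hp 0 (Nat.zero_le _)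
  change mapW e.edesc (WF e n (o.X.k + 1)) = ⊥
  rw [WF_last]
  exact Submodule.map_bot _

end Groth.Agent.ResProp.EF.K303
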