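import Groth.Agent.ResProp.EF.Arch
import Groth.Agent.ResProp.EF.K276.SubGen
import Groth.Prelude.Def_ComodSub

/-!
# Subobjects and quotients of the `SObj` of Arch.lean (AD4 (2), helper303)

`Stab X W` : the `P`-submodule `W` of `X.M⟨0⟩` is stable under the coactions of `Γ` and `E`.
-/

set_option autoImplicit false
set_option linter.dupNamespace false
set_option backward.isDefEq.respectTransparency false

open CategoryTheory Opposite TensorProduct

noncomputable section

namespace Groth.Agent.ResProp.EF.K303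

open K784.BC K784.PM K741.RP EF56 Grp Arch K276

universe u

variable {k : Type u} [CommRing k] {A : NFᵒᵖ ⥤ CommRingCat.{u}} [GRF k A] {E : Gp k}
  {P : Type u} [CommRing P] [Algebra (A.obj (op ⟨0⟩)) P]

/-- the underlying `R`-submodule -/
abbrev rS (X : SObj k A E P) (W : Submodule P (X.M.obj ⟨0⟩)) : Submodule (A.obj (op ⟨0⟩)) (X.M.obj ⟨0⟩) :=
  W.restrictScalars (A.obj (op ⟨0⟩))

/-- stable submodules -/
structure Stab (X : SObj k A E P) (W : Submodule P (X.M.obj ⟨0⟩)) : Prop where
  gam : StC X.M (rS X W)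
  e : @HopfRep.IsSubcomod k E.O _ _ _ _ (X.M.obj ⟨0⟩) _ _ (X.e.co ⟨0⟩) ((rS X W).restrictScalars k)

/-- the range of `W ⊗ O → M ⊗ O` -/
theorem mem_range_of_span {a : NF} {M : PM.{u} A} (co : ECo E M) (S : Set (M.obj a))
    (h : ∀ s ∈ S, (co.co a).coact s ∈
      LinearMap.range (((Submodule.span (A.obj (op a)) S).restrictScalars k).subtype.rTensor E.O)) :
    @HopfRep.IsSubcomod k E.O _ _ _ _ (M.obj a) _ _ (co.co a)
      ((Submodule.span (A.obj (op a)) S).restrictScalars k) := by
  intro w hw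
  have hw' : w ∈ Submodule.span (A.obj (op a)) S := hw
  clear hw
  induction hw' using Submodule.span_induction with
  | mem s hs => exact h s hs
  | zero => rw [map_zero]; exact zero_mem _
  | add x y _ _ hx hy => rw [map_add]; exact add_mem hx hy
  | smul r x _ hx =>
    rw [co.lin]
    obtain ⟨y, hy⟩ := hx
    let m : ((Submodule.span (A.obj (op a)) S).restrictScalars k) →ₗ[k]
        ((Submodule.span (A.obj (op a)) S).restrictScalars k) :=
      (mulk (k := k) M a r).restrict fun z hz => (Submodule.span (A.obj (op a)) S).smul_mem r hz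
    refine ⟨m.rTensor E.O y, ?_⟩
    rw [← hy, ← LinearMap.comp_apply, ← LinearMap.comp_apply, ← LinearMap.rTensor_comp,
      ← LinearMap.rTensor_comp]
    rfl

theorem rTensor_square {M N M' N' : Type*} [AddCommGroup M] [Module k M] [AddCommGroup N] [Module k N]
    [AddCommGroup M'] [Module k M'] [AddCommGroup N'] [Module k N'] {O : Type*} [AddCommGroup O] [Module k O]
    (f : M →ₗ[k] N) (g : M' →ₗ[k] N') (u : M →ₗ[k] M') (v : N →ₗ[k] N') (h : ∀ m, g (u m) = v (f m))
    (y : M ⊗[k] O) : g.rTensor O (u.rTensor O y) = v.rTensor O (f.rTensor O y) := by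
  have e : g ∘ₗ u = v ∘ₗ f := LinearMap.ext h
  rw [← LinearMap.comp_apply, ← LinearMap.comp_apply, ← LinearMap.rTensor_comp, ← LinearMap.rTensor_comp, e]

variable {X : SObj k A E P} {W : Submodule P (X.M.obj ⟨0⟩)}

theorem Stab.comod (h : Stab X W) (a : NF) :
    @HopfRep.IsSubcomod k E.O _ _ _ _ (X.M.obj a) _ _ (X.e.co a)
      ((gen X.M (rS X W) a).restrictScalars k) := by
  apply mem_range_of_span X.e
  rintro _ ⟨w, hw, rfl⟩
  rw [X.e.nat]
  obtain ⟨y, hy⟩ := h.e w hw
  let m : ((rS X W).restrictScalars k) →ₗ[k]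
      ((Submodule.span (A.obj (op a)) (X.M.map (pt a 0) '' (rS X W))).restrictScalars k) :=
    (mapk (k := k) X.M (pt a 0)).restrict fun z hz => Submodule.subset_span ⟨z, hz, rfl⟩
  refine ⟨m.rTensor E.O y, ?_⟩
  rw [← hy]
  exact rTensor_square (((rS X W).restrictScalars k).subtype) _ m (mapk (k := k) X.M (pt a 0)) (fun _ => rfl) y

/-- the sub-presheaf -/
abbrev subPM (h : Stab X W) : PM.{u} A := genSub X.M (rS X W) h.gam

/-- the inclusion -/
def subInc (h : Stab X W) (a : NF) : (subPM h).obj a →ₗ[A.obj (op a)] X.M.obj a := (gen X.M (rS X W) a).subtype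

theorem subInc_injective (h : Stab X W) (a : NF) : Function.Injective (subInc h a) := Subtype.val_injective

/-- the coaction on one level -/
@[reducible] def subC (h : Stab X W) (a : NF) : HopfRep.Comod k E.O ((subPM h).obj a) :=
  ComodSub.Comod.restr (X.e.co a) ((gen X.M (rS X W) a).restrictScalars k) (h.comod a)

theorem subC_spec (h : Stab X W) (a : NF) (m : (subPM h).obj a) :
    ((subInc h a).restrictScalars k).rTensor E.O ((subC h a).coact m) = (X.e.co a).coact (subInc h a m) :=
  ComodSub.restr_coact_coe (X.e.co a) ((gen X.M (rS X W) a).restrictScalars k) (h.comod a) m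

theorem subInc_rTensor_injective (h : Stab X W) (a : NF) :
    Function.Injective (((subInc h a).restrictScalars k).rTensor E.O) :=
  Module.Flat.rTensor_preserves_injective_linearMap _ (subInc_injective h a)

/-- The `E`-coaction on the sub-presheaf -/
def subCo (h : Stab X W) : ECo E (subPM h) where
  co a := subC h a
  lin a r m := by
    apply subInc_rTensor_injective h a
    rw [subC_spec, map_smul, X.e.lin, ← subC_spec]
    exact (rTensor_square ((mulk (k := k) (subPM h) a r)) (mulk (k := k) X.M a r)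
      ((subInc h a).restrictScalars k) ((subInc h a).restrictScalars k) (fun _ => rfl) _)
  nat {a b} φ m := by
    apply subInc_rTensor_injective h a
    rw [subC_spec]
    have h1 : subInc h a ((subPM h).map φ m) = X.M.map φ (subInc h b m) := rfl
    rw [h1, X.e.nat, ← subC_spec]
    exact (rTensor_square ((mapk (k := k) (subPM h) φ)) (mapk (k := k) X.M φ)
      ((subInc h b).restrictScalars k) ((subInc h a).restrictScalars k) (fun _ => rfl) _)

/-- the value of the sub-presheaf at `⟨0⟩` is `W` -/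
theorem mem_gen_zero {m : X.M.obj ⟨0⟩} : m ∈ gen X.M (rS X W) ⟨0⟩ ↔ m ∈ W := by
  rw [gen_zero]
  exact Iff.rfl

/-- `W` as a `P`-submodule with the carrier `gen ⟨0⟩` -/
def genP (X : SObj k A E P) (W : Submodule P (X.M.obj ⟨0⟩)) : Submodule P (X.M.obj ⟨0⟩) where
  carrier := gen X.M (rS X W) ⟨0⟩
  zero_mem' := zero_mem _
  add_mem' := add_mem
  smul_mem' q m hm := mem_gen_zero.2 (W.smul_mem q (mem_gen_zero.1 hm))

instance subPmod (h : Stab X W) : Module P ((subPM h).obj ⟨0⟩) := inferInstanceAs (Module P (genP X W))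

theorem subInc_smul (h : Stab X W) (q : P) (m : (subPM h).obj ⟨0⟩) :
    subInc h ⟨0⟩ (q • m) = q • subInc h ⟨0⟩ m := rfl

instance subPtw (h : Stab X W) : IsScalarTower (A.obj (op ⟨0⟩)) P ((subPM h).obj ⟨0⟩) :=
  ⟨fun r q m => by
    apply subInc_injective h
    rw [subInc_smul, map_smul, subInc_smul, smul_assoc]⟩

/-- **the subobject** -/
def sub (X : SObj k A E P) (W : Submodule P (X.M.obj ⟨0⟩)) (h : Stab X W) : SObj k A E P where
  M := subPM h
  cart := genSub_cart (GRF.gr (k := k)) X.cart h.gam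
  e := subCo h
  pm := subPmod h
  tw := subPtw h

/-- the inclusion -/
def subHom (X : SObj k A E P) (W : Submodule P (X.M.obj ⟨0⟩)) (h : Stab X W) : (sub X W h).Hom X where
  f a := subInc h a
  nat _ _ := rfl
  equi a m := (subC_spec h a m).symm
  pl _ _ := rfl

theorem subHom_injective (X : SObj k A E P) (W : Submodule P (X.M.obj ⟨0⟩)) (h : Stab X W) (a : NF) :
    Function.Injective ((subHom X W h).f a) := subInc_injective h a

theorem range_subHom (X : SObj k A E P) (W : Submodule P (X.M.obj ⟨0⟩)) (h : Stab X W) (m : X.M.obj ⟨0⟩) :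
    m ∈ Set.range ((subHom X W h).f ⟨0⟩) ↔ m ∈ W :=
  ⟨fun ⟨n, hn⟩ => hn ▸ mem_gen_zero.1 n.2, fun hm => ⟨⟨m, mem_gen_zero.2 hm⟩, rfl⟩⟩

/-! ### quotients -/

/-- the quotient presheaf -/
abbrev quoPM (h : Stab X W) : PM.{u} A := quotPM X.M (gen X.M (rS X W)) (map_mem_gen h.gam)

/-- the projection -/
def quoP (h : Stab X W) (a : NF) : X.M.obj a →ₗ[A.obj (op a)] (quoPM h).obj a := (gen X.M (rS X W) a).mkQ

theorem quoP_surjective (h : Stab X W) (a : NF) : Function.Surjective (quoP h a) := Submodule.mkQ_surjective _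

theorem quoP_map (h : Stab X W) {a b : NF} (φ : a ⟶ b) (m : X.M.obj b) :
    quoP h a (X.M.map φ m) = (quoPM h).map φ (quoP h b m) := rfl

theorem quoP_eq_zero (h : Stab X W) {a : NF} {m : X.M.obj a} : quoP h a m = 0 ↔ m ∈ gen X.M (rS X W) a :=
  Submodule.Quotient.mk_eq_zero _

/-- the coaction on one level -/
@[reducible] def quoC (h : Stab X W) (a : NF) : HopfRep.Comod k E.O ((quoPM h).obj a) :=
  ComodSub.Comod.quot (X.e.co a) ((gen X.M (rS X W) a).restrictScalars k) (h.comod a)

theorem quoC_spec (h : Stab X W) (a : NF) (m : X.M.obj a) :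
    (quoC h a).coact (quoP h a m) = ((quoP h a).restrictScalars k).rTensor E.O ((X.e.co a).coact m) :=
  ComodSub.quot_coact_mk (X.e.co a) ((gen X.M (rS X W) a).restrictScalars k) (h.comod a) m

/-- The `E`-coaction on the quotient -/
def quoCo (h : Stab X W) : ECo E (quoPM h) where
  co a := quoC h a
  lin a r m := by
    obtain ⟨m, rfl⟩ := quoP_surjective h a m
    rw [← map_smul, quoC_spec, X.e.lin, quoC_spec]
    exact (rTensor_square ((mulk (k := k) X.M a r)) (mulk (k := k) (quoPM h) a r)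
      ((quoP h a).restrictScalars k) ((quoP h a).restrictScalars k) (fun _ => rfl) _).symm
  nat {a b} φ m := by
    obtain ⟨m, rfl⟩ := quoP_surjective h b m
    rw [← quoP_map, quoC_spec, X.e.nat, quoC_spec]
    exact (rTensor_square ((mapk (k := k) X.M φ)) (mapk (k := k) (quoPM h) φ)
      ((quoP h b).restrictScalars k) ((quoP h a).restrictScalars k) (fun _ => rfl) _).symm

instance quoPmod (h : Stab X W) : Module P ((quoPM h).obj ⟨0⟩) :=
  inferInstanceAs (Module P (X.M.obj ⟨0⟩ ⧸ genP X W))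

theorem quoP_smul (h : Stab X W) (q : P) (m : X.M.obj ⟨0⟩) :
    quoP h ⟨0⟩ (q • m) = q • quoP h ⟨0⟩ m := rfl

instance quoPtw (h : Stab X W) : IsScalarTower (A.obj (op ⟨0⟩)) P ((quoPM h).obj ⟨0⟩) :=
  ⟨fun r q m => by
    obtain ⟨m, rfl⟩ := quoP_surjective h ⟨0⟩ m
    have h1 : quoP h ⟨0⟩ ((r • q) • m) = quoP h ⟨0⟩ (r • (q • m)) := by rw [smul_assoc]
    exact h1.trans ((quoP h ⟨0⟩).map_smul r (q • m))⟩

theorem gen_le_span (h : Stab X W) {a b : NF} (φ : a ⟶ b) :
    gen X.M (rS X W) a ≤ Submodule.span (A.obj (op a)) (X.M.map φ '' (gen X.M (rS X W) b)) := by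
  rw [← span_eq_gen h.gam ((show Fin (b.n + 1) → Fin (a.n + 1) from φ) 0), Submodule.span_le]
  rintro _ ⟨w, hw, rfl⟩
  rw [← comp_pt φ 0, X.M.map_comp]
  exact Submodule.subset_span ⟨_, Submodule.subset_span ⟨w, hw, rfl⟩, rfl⟩

/-- **the quotient object** -/
def quo (X : SObj k A E P) (W : Submodule P (X.M.obj ⟨0⟩)) (h : Stab X W) : SObj k A E P where
  M := quoPM h
  cart := quotPM_cart X.cart _ _ fun _ _ φ => gen_le_span h φ
  e := quoCo h
  pm := quoPmod h
  tw := quoPtw h

/-- the projection -/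
def quoHom (X : SObj k A E P) (W : Submodule P (X.M.obj ⟨0⟩)) (h : Stab X W) : X.Hom (quo X W h) where
  f a := quoP h a
  nat _ _ := rfl
  equi a m := quoC_spec h a m
  pl _ _ := rfl

theorem quoHom_surjective (X : SObj k A E P) (W : Submodule P (X.M.obj ⟨0⟩)) (h : Stab X W) (a : NF) :
    Function.Surjective ((quoHom X W h).f a) := quoP_surjective h a

theorem quoHom_eq_zero (X : SObj k A E P) (W : Submodule P (X.M.obj ⟨0⟩)) (h : Stab X W) (m : X.M.obj ⟨0⟩) :
    (quoHom X W h).f ⟨0⟩ m = 0 ↔ m ∈ W := (quoP_eq_zero h).trans mem_gen_zero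

theorem exact_sub_quo (X : SObj k A E P) (W : Submodule P (X.M.obj ⟨0⟩)) (h : Stab X W) :
    Function.Exact ((subHom X W h).f ⟨0⟩) ((quoHom X W h).f ⟨0⟩) := fun m => by
  rw [quoHom_eq_zero, range_subHom]

end Groth.Agent.ResProp.EF.K303
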