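import Groth.Agent.ResProp.EF.K303.Tot
import Groth.Agent.ResProp.EF.K396.Num

/-!
# The terms of the complex (AD4, helper303)

`WF e n m = (F m ⊓ deg n)^I`, stable; `KK e n` the object of degree `n`, `dK` the differential, `eK : KK n ⟨0⟩ ≃ (I → deg n)`.
-/

set_option autoImplicit false
set_option linter.dupNamespace false
set_option backward.isDefEq.respectTransparency false

open CategoryTheory Opposite TensorProduct

noncomputable section

namespace Groth.Agent.ResProp.EF.K303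

open K784.BC K784.PM K741.RP EF56 K294 Grp Arch K980 K980.BC K959 K959.CoBC K276

universe u v

section SubBC

variable {R R' : Type*} [CommRing R] [CommRing R'] (x : R →+* R') {M N : Type*} [AddCommGroup M] [Module R M]
  [AddCommGroup N] [Module R N]

theorem map_mem_subBC {S : Submodule R M} {T : Submodule R N} (f : M →ₗ[R] N) (h : ∀ s ∈ S, f s ∈ T) {z : BC x M}
    (hz : z ∈ subBC x S) : BC.map x f z ∈ subBC x T := by
  obtain ⟨y, rfl⟩ := hz
  refine ⟨BC.map x (f.restrict h) y, ?_⟩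
  rw [BC.map_map, BC.map_map]
  rfl

theorem mem_subBC_pi {I : Type*} [Fintype I] [DecidableEq I] (S : Submodule R M) {z : BC x (I → M)}
    (h : ∀ i : I, BC.map x (LinearMap.proj i : (I → M) →ₗ[R] M) z ∈ subBC x S) :
    z ∈ subBC x (Submodule.pi Set.univ (fun _ : I => S)) := by
  have key : ∀ m : BC x (I → M), m = ∑ i : I, BC.map x (LinearMap.single R (fun _ => M) i)
      (BC.map x (LinearMap.proj i : (I → M) →ₗ[R] M) m) := by
    intro m
    induction m using BC.ind with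
    | h0 => simp only [map_zero, Finset.sum_const_zero]
    | h1 r m =>
      simp only [LinearMap.map_smul, map_bc]
      rw [← Finset.smul_sum, ← map_sum]
      congr 2
      funext j
      simp [Finset.sum_apply, Pi.single_apply]
    | h2 a b ha hb =>
      simp only [map_add]
      rw [Finset.sum_add_distrib, ← ha, ← hb]
  rw [key z]
  refine sum_mem fun i _ => map_mem_subBC x _ (fun s hs => ?_) (h i)
  rw [Submodule.mem_pi]
  intro j _
  by_cases hj : j = i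
  · subst hj
    simpa using hs
  · have : (LinearMap.single R (fun _ : I => M) i) s j = 0 := by
      rw [LinearMap.single_apply, Pi.single_eq_of_ne hj]
    rw [this]
    exact zero_mem _

theorem proj_mem_subBC {I : Type*} (S : Submodule R M) {z : BC x (I → M)}
    (h : z ∈ subBC x (Submodule.pi Set.univ (fun _ : I => S))) (i : I) :
    BC.map x (LinearMap.proj i : (I → M) →ₗ[R] M) z ∈ subBC x S :=
  map_mem_subBC x _ (fun s hs => (Submodule.mem_pi.1 hs) i (Set.mem_univ i)) h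

end SubBC

variable {k : Type u} [CommRing k] {A : NFᵒᵖ ⥤ CommRingCat.{u}} [GRF k A] {x : PrimeSpectrum (A.obj (op ⟨0⟩))}
  {c : CoverDatum k A x} {o : ALGOut c} {s : Desc A o.X.K}

/-- what is used of `Glued` -/
structure GFacts (o : ALGOut c) (s : Desc A o.X.K) : Prop where
  hd : s.IsHom s (o.X.d.restrictScalars (A.obj (op ⟨0⟩)))
  hpr : ∀ i, s.IsHom s ((o.X.pr i).restrictScalars (A.obj (op ⟨0⟩)))
  F0 : ∀ m, ∀ v ∈ o.X.Fx (vx A ⟨1⟩ 0) m, s.σ v ∈ o.X.Fx (vx A ⟨1⟩ 1) m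
  F1 : ∀ m, ∀ v ∈ o.X.Fx (vx A ⟨1⟩ 1) m, s.σ.symm v ∈ o.X.Fx (vx A ⟨1⟩ 0) m

variable (e : ESide o s)

/-- the descent datum with coaction -/
def ESide.edesc : EDesc k A e.E o.X.Q where
  K := e.I → o.X.K
  s := s.pow e.I
  c := e.coE
  lin := e.lin
  equi := e.equi

/-- the whole object -/
def ESide.Tot : SObj k A e.E o.X.Q := e.edesc.sobj

/-- `(F m ∩ deg n)^I` -/
def WF (n : ℤ) (m : ℕ) : Submodule o.X.Q (e.I → o.X.K) :=
  Submodule.pi Set.univ (fun _ => o.X.F m ⊓ o.X.deg n)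

theorem mem_WF {n : ℤ} {m : ℕ} {w : e.I → o.X.K} :
    w ∈ WF e n m ↔ ∀ i, w i ∈ o.X.F m ∧ o.X.prz n (w i) = w i := by
  rw [WF, Submodule.mem_pi]
  constructor
  · intro h i
    have := h i (Set.mem_univ i)
    exact ⟨this.1, (K396.mem_deg o.X.toOpCpx).1 this.2⟩
  · intro h i _
    exact ⟨(h i).1, (K396.mem_deg o.X.toOpCpx).2 (h i).2⟩

theorem prz_cases (X : OpCpx.{u} (A.obj (op ⟨0⟩))) (n : ℤ) : X.prz n = 0 ∨ ∃ i, X.prz n = X.pr i := by
  unfold OpCpx.prz
  split_ifs with h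
  · exact Or.inr ⟨_, rfl⟩
  · exact Or.inl rfl

theorem prz_F (X : OpCpx.{u} (A.obj (op ⟨0⟩))) (n : ℤ) (m : ℕ) {v : X.K} (hv : v ∈ X.F m) : X.prz n v ∈ X.F m := by
  rcases prz_cases X n with h | ⟨i, h⟩
  · rw [h]; exact zero_mem _
  · rw [h]; exact X.F_pr m i v hv

theorem prz_prz (X : OpCpx.{u} (A.obj (op ⟨0⟩))) (n : ℤ) (v : X.K) : X.prz n (X.prz n v) = X.prz n v :=
  (K396.mem_deg X).1 ⟨v, rfl⟩

theorem GFacts.hprz (hs : GFacts o s) (n : ℤ) : s.IsHom s ((o.X.prz n).restrictScalars (A.obj (op ⟨0⟩))) := by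
  rcases prz_cases o.X.toOpCpx n with h | ⟨i, h⟩
  · intro m
    rw [h]
    have e0 : (0 : o.X.K →ₗ[o.X.Q] o.X.K).restrictScalars (A.obj (op ⟨0⟩)) = 0 := rfl
    rw [e0, LinearMap.zero_apply, map_zero, map_zero, BC.map_zero']
    rfl
  · rw [h]
    exact hs.hpr i

theorem ESide.co_prz (n : ℤ) (m : e.I → o.X.K) : e.coE.coact (((o.X.prz n).restrictScalars k).compLeft e.I m) =
    (((o.X.prz n).restrictScalars k).compLeft e.I).rTensor e.E.O (e.coE.coact m) := by
  rcases prz_cases o.X.toOpCpx n with h | ⟨i, h⟩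
  · rw [h]
    have e0 : ((0 : o.X.K →ₗ[o.X.Q] o.X.K).restrictScalars k).compLeft e.I = 0 := rfl
    rw [e0, LinearMap.zero_apply, map_zero, LinearMap.rTensor_zero]
    rfl
  · rw [h]
    exact e.co_pr i m

/-- the projection `F m → F m ∩ deg n` on the base change -/
theorem map_prz_mem {R' : Type u} [CommRing R'] (y : A.obj (op ⟨0⟩) →+* R') (n : ℤ) (m : ℕ) {z : BC y o.X.K}
    (hz : z ∈ o.X.Fx y m) : BC.map y ((o.X.prz n).restrictScalars (A.obj (op ⟨0⟩))) z ∈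
      subBC y ((o.X.F m ⊓ o.X.deg n).restrictScalars (A.obj (op ⟨0⟩))) := by
  refine map_mem_subBC y (S := (o.X.F m).restrictScalars (A.obj (op ⟨0⟩)))
    (T := (o.X.F m ⊓ o.X.deg n).restrictScalars (A.obj (op ⟨0⟩))) _ (fun s hs => ?_) hz
  exact Submodule.mem_inf.2 ⟨prz_F o.X.toOpCpx n m hs, ⟨s, rfl⟩⟩

variable {e}

theorem stabK_WF (hs : GFacts o s) (n : ℤ) (m : ℕ) : StabK e.edesc (WF e n m) where
  g0 w hw := by
    rw [mem_WF] at hw
    refine mem_subBC_pi (I := e.I) (vx A ⟨1⟩ 1) ((o.X.F m ⊓ o.X.deg n).restrictScalars (A.obj (op ⟨0⟩))) fun i => ?_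
    have h1 : BC.map (vx A ⟨1⟩ 1) (LinearMap.proj i : (e.I → o.X.K) →ₗ[A.obj (op ⟨0⟩)] o.X.K)
        ((s.pow e.I).σ (bc (vx A ⟨1⟩ 0) w)) = s.σ (bc (vx A ⟨1⟩ 0) (w i)) := by
      rw [Desc.pow_σ, proj_powE, map_bc]
      rfl
    have h2 := hs.hprz n (w i)
    have h3 : ((o.X.prz n).restrictScalars (A.obj (op ⟨0⟩))) (w i) = w i := (hw i).2
    rw [h3] at h2
    refine (congrArg (· ∈ _) (h1.trans h2)).mpr ?_
    exact map_prz_mem (vx A ⟨1⟩ 1) n m (hs.F0 m _ (bc_mem_subBC _ (hw i).1))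
  g1 w hw := by
    rw [mem_WF] at hw
    refine mem_subBC_pi (I := e.I) (vx A ⟨1⟩ 0) ((o.X.F m ⊓ o.X.deg n).restrictScalars (A.obj (op ⟨0⟩))) fun i => ?_
    have h1 : BC.map (vx A ⟨1⟩ 0) (LinearMap.proj i : (e.I → o.X.K) →ₗ[A.obj (op ⟨0⟩)] o.X.K)
        ((s.pow e.I).σ.symm (bc (vx A ⟨1⟩ 1) w)) = s.σ.symm (bc (vx A ⟨1⟩ 1) (w i)) := by
      rw [Desc.pow_σ, powE_symm, proj_powE, map_bc]
      rfl
    have h2 := (hs.hprz n).σ_map (s.σ.symm (bc (vx A ⟨1⟩ 1) (w i)))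
    rw [LinearEquiv.apply_symm_apply, map_bc] at h2
    have h3 : ((o.X.prz n).restrictScalars (A.obj (op ⟨0⟩))) (w i) = w i := (hw i).2
    rw [h3] at h2
    have h4 : BC.map (vx A ⟨1⟩ 0) ((o.X.prz n).restrictScalars (A.obj (op ⟨0⟩)))
        (s.σ.symm (bc (vx A ⟨1⟩ 1) (w i))) = s.σ.symm (bc (vx A ⟨1⟩ 1) (w i)) := by
      apply s.σ.injective
      rw [h2, LinearEquiv.apply_symm_apply]
    refine (congrArg (· ∈ _) (h1.trans h4.symm)).mpr ?_
    exact map_prz_mem (vx A ⟨1⟩ 0) n m (hs.F1 m _ (bc_mem_subBC _ (hw i).1))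
  e w hw := by
    rw [mem_WF] at hw
    obtain ⟨z, hz, -⟩ := e.compat m (fun i => ⟨w i, (hw i).1⟩)
    have h1 : ((o.X.prz n).restrictScalars k).compLeft e.I w = w := funext fun i => (hw i).2
    have h2 := e.co_prz n w
    rw [h1] at h2
    let f : (e.I → o.X.F m) →ₗ[k] (((WF e n m).restrictScalars (A.obj (op ⟨0⟩))).restrictScalars k) :=
      (((o.X.prz n).restrictScalars k).compLeft e.I ∘ₗ (incF o.X.toOpCpx m).compLeft e.I).codRestrict _ (fun y => by
        change _ ∈ WF e n m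
        rw [mem_WF]
        exact fun i => ⟨prz_F o.X.toOpCpx n m (y i).2, prz_prz o.X.toOpCpx n _⟩)
    refine ⟨f.rTensor e.E.O z, ?_⟩
    refine Eq.trans ?_ h2.symm
    have h3 : e.coE.coact w = ((incF o.X.toOpCpx m).compLeft e.I).rTensor e.E.O z := hz.symm
    rw [h3]
    exact rTensor_square ((incF o.X.toOpCpx m).compLeft e.I)
      (((WF e n m).restrictScalars (A.obj (op ⟨0⟩))).restrictScalars k).subtype f
      (((o.X.prz n).restrictScalars k).compLeft e.I) (fun _ => rfl) z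

end Groth.Agent.ResProp.EF.K303
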