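import Groth.Agent.ResProp.EF.K303.ConsDef
import Groth.Agent.ResProp.EF.K303.Chain

/-!
# Stable submodules of the object of a descent datum with coaction (AD4, helper303)
-/

set_option autoImplicit false
set_option linter.dupNamespace false
set_option backward.isDefEq.respectTransparency false

open CategoryTheory Opposite TensorProduct

noncomputable section

namespace Groth.Agent.ResProp.EF.K303

open K784.BC K784.PM K741.RP EF56 K294 Grp Arch K980 K980.BC K959 K959.CoBC K276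

universe u v

section SubBC

variable {R R' : Type*} [CommRing R] [CommRing R'] (x : R →+* R') {M : Type*} [AddCommGroup M] [Module R M]

theorem subBC_eq_span (S : Submodule R M) : subBC x S = Submodule.span R' (bc x '' (S : Set M)) := by
  apply le_antisymm
  · rintro _ ⟨y, rfl⟩
    induction y using BC.ind with
    | h0 => rw [map_zero]; exact zero_mem _
    | h1 r m =>
      rw [LinearMap.map_smul, map_bc]
      exact Submodule.smul_mem _ _ (Submodule.subset_span ⟨m, m.2, rfl⟩)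
    | h2 a b ha hb => rw [map_add]; exact add_mem ha hb
  · rw [Submodule.span_le]
    rintro _ ⟨m, hm, rfl⟩
    exact ⟨bc x ⟨m, hm⟩, map_bc _ _⟩

theorem bc_mem_subBC {S : Submodule R M} {m : M} (hm : m ∈ S) : bc x m ∈ subBC x S := ⟨bc x ⟨m, hm⟩, map_bc _ _⟩

end SubBC

variable {A : NFᵒᵖ ⥤ CommRingCat.{u}}

theorem tp_one {K : Type v} [AddCommGroup K] [Module (A.obj (op ⟨0⟩)) K] (s : Desc A K)
    (z : BC (vx A ⟨1⟩ 0) K) : s.tp ⟨1⟩ 0 1 z = s.σ z := by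
  have key : ∀ (φ : (⟨1⟩ : NF) ⟶ ⟨1⟩) (_ : φ = 𝟙 _) (h : (rg A φ).comp (vx A ⟨1⟩ 1) = vx A ⟨1⟩ 1)
      (w : BC (vx A ⟨1⟩ 1) K), tr (rg A φ) h w = w := by
    intro φ hφ h w
    subst hφ
    induction w using BC.ind with
    | h0 => exact map_zero _
    | h1 r m =>
      rw [LinearMap.map_smulₛₗ, tr_bc, rg_id]
      rfl
    | h2 a b ha hb => rw [map_add, ha, hb]
  have e : edge (⟨1⟩ : NF) 0 1 = 𝟙 _ := by
    funext l
    fin_cases l <;> rfl
  induction z using BC.ind with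
  | h0 => rw [map_zero, map_zero]
  | h1 r m =>
    rw [_root_.map_smul, _root_.map_smul]
    congr 1
    change tpE s.σ ⟨1⟩ 0 1 (bc (vx A ⟨1⟩ 0) m) = _
    rw [tpE_bc]
    exact key _ e _ _
  | h2 a b ha hb => rw [map_add, map_add, ha, hb]

theorem tp_one_symm {K : Type v} [AddCommGroup K] [Module (A.obj (op ⟨0⟩)) K] (s : Desc A K)
    (z : BC (vx A ⟨1⟩ 1) K) : s.tp ⟨1⟩ 1 0 z = s.σ.symm z := by
  apply s.σ.injective
  rw [LinearEquiv.apply_symm_apply, ← tp_one, s.tp_tp, s.tp_self]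

variable {k : Type u} [CommRing k] [GRF k A] {E : Gp k} {P : Type u} [CommRing P] [Algebra (A.obj (op ⟨0⟩)) P]
  (X : EDesc k A E P)

/-- `K → X.sobj.M.obj ⟨0⟩` -/
def emb0L : X.K →ₗ[P] X.sobj.M.obj ⟨0⟩ where
  toFun m := (bc (vx A ⟨0⟩ 0) m : BC (vx A ⟨0⟩ 0) X.K)
  map_add' m n := map_add (bc (vx A ⟨0⟩ 0)) m n
  map_smul' q m := (X.smul_bc q m).symm

/-- `K ≃ X.sobj.M.obj ⟨0⟩` -/
def emb0 : X.K ≃ₗ[P] X.sobj.M.obj ⟨0⟩ := LinearEquiv.ofBijective (emb0L X) X.bc_bijective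

theorem emb0_apply (m : X.K) : emb0 X m = bc (vx A ⟨0⟩ 0) m := rfl

theorem map0_emb0 (m : X.K) : X.sobj.M.map (pt ⟨1⟩ 0) (emb0 X m) = bc (vx A ⟨1⟩ 0) m := by
  rw [emb0_apply, X.map_pt, X.s.tp_self]

theorem map1_emb0 (m : X.K) : X.sobj.M.map (pt ⟨1⟩ 1) (emb0 X m) = X.s.σ.symm (bc (vx A ⟨1⟩ 1) m) := by
  rw [emb0_apply, X.map_pt, tp_one_symm]

/-- the stability of a submodule of `K` -/
structure StabK (W : Submodule P X.K) : Prop where
  g0 : ∀ w ∈ W, X.s.σ (bc (vx A ⟨1⟩ 0) w) ∈ subBC (vx A ⟨1⟩ 1) (W.restrictScalars (A.obj (op ⟨0⟩)))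
  g1 : ∀ w ∈ W, X.s.σ.symm (bc (vx A ⟨1⟩ 1) w) ∈ subBC (vx A ⟨1⟩ 0) (W.restrictScalars (A.obj (op ⟨0⟩)))
  e : ∀ w ∈ W, X.c.coact w ∈ LinearMap.range
    ((((W.restrictScalars (A.obj (op ⟨0⟩))).restrictScalars k).subtype).rTensor E.O)

/-- the submodule of the object -/
abbrev mapW (W : Submodule P X.K) : Submodule P (X.sobj.M.obj ⟨0⟩) := W.map (emb0 X).toLinearMap

variable {X}

theorem StabK.stab {W : Submodule P X.K} (h : StabK X W) : Stab X.sobj (mapW X W) where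
  gam := by
    rintro _ ⟨w, hw, rfl⟩
    have e1 : X.sobj.M.map (pt ⟨1⟩ 1) '' (rS X.sobj (mapW X W)) = X.s.σ.symm '' (bc (vx A ⟨1⟩ 1) '' (W : Set X.K)) := by
      ext z
      constructor
      · rintro ⟨_, ⟨v, hv, rfl⟩, rfl⟩
        exact ⟨_, ⟨v, hv, rfl⟩, (map1_emb0 X v).symm⟩
      · rintro ⟨_, ⟨v, hv, rfl⟩, rfl⟩
        exact ⟨emb0 X v, ⟨v, hv, rfl⟩, map1_emb0 X v⟩
    have e0 : X.sobj.M.map (pt ⟨1⟩ 0) '' (rS X.sobj (mapW X W)) = bc (vx A ⟨1⟩ 0) '' (W : Set X.K) := by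
      ext z
      constructor
      · rintro ⟨_, ⟨v, hv, rfl⟩, rfl⟩
        exact ⟨v, hv, (map0_emb0 X v).symm⟩
      · rintro ⟨v, hv, rfl⟩
        exact ⟨emb0 X v, ⟨v, hv, rfl⟩, map0_emb0 X v⟩
    constructor
    · have h1 := h.g0 w hw
      rw [subBC_eq_span] at h1
      have h2 : X.s.σ.symm (X.s.σ (bc (vx A ⟨1⟩ 0) w)) ∈
          (Submodule.span (A.obj (op ⟨1⟩)) (bc (vx A ⟨1⟩ 1) '' (W : Set X.K))).map X.s.σ.symm.toLinearMap :=
        ⟨_, h1, rfl⟩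
      rw [LinearEquiv.symm_apply_apply, Submodule.map_span] at h2
      have h3 := map0_emb0 X w
      rw [e1]
      exact h3 ▸ h2
    · have h1 := h.g1 w hw
      rw [subBC_eq_span] at h1
      have h3 := map1_emb0 X w
      rw [e0]
      exact h3 ▸ h1
  e := by
    rintro _ ⟨w, hw, rfl⟩
    obtain ⟨y, hy⟩ := h.e w hw
    let f : (W.restrictScalars (A.obj (op ⟨0⟩))).restrictScalars k →ₗ[k]
        (rS X.sobj (mapW X W)).restrictScalars k :=
      (toK (hk A k ⟨0⟩ 0) (bc (vx A ⟨0⟩ 0) : X.K →ₛₗ[vx A ⟨0⟩ 0] BC (vx A ⟨0⟩ 0) X.K)).restrict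
        (fun v hv => ⟨v, hv, rfl⟩)
    refine ⟨f.rTensor E.O y, ?_⟩
    have h1 := X.coact_bc w
    refine Eq.trans ?_ h1.symm
    rw [← hy]
    exact rTensor_square ((W.restrictScalars (A.obj (op ⟨0⟩))).restrictScalars k).subtype
      ((rS X.sobj (mapW X W)).restrictScalars k).subtype f
      (toK (hk A k ⟨0⟩ 0) (bc (vx A ⟨0⟩ 0) : X.K →ₛₗ[vx A ⟨0⟩ 0] BC (vx A ⟨0⟩ 0) X.K)) (fun _ => rfl) y

end Groth.Agent.ResProp.EF.K303
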